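import Cfsg.Agent.H362.Eight.SpGen
import Cfsg.Agent.H689.Sp6Two
import Cfsg.Agent.H996.Eight.Interval

/-!
# S4899: `Sp₆(2)` has at least 8 character degrees (helper688)

The degrees 1, 7, 21, 27, 35, 405, 512 and one in (35, 245].
-/

set_option autoImplicit false

open scoped ComplexConjugate
open Cfsg Cfsg.Agent.SporRec.TwoSp6.Sp Cfsg.Agent.H689.Sp6 Cfsg.Agent.Characters

namespace Cfsg.Agent.H688.Eight

open Cfsg.Agent.H664.Eight Cfsg.Agent.H996.Eight.Interval Cfsg.Agent.H362.Eight Cfsg.Agent.H362.Dl
open Cfsg.Agent.H477.HC Cfsg.Agent.H53.HC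

universe u

theorem isIrr_ch7 : IsIrrCharacter S ch7 := by
  have : Fintype S := Fintype.ofFinite S
  rw [Core.isIrr_iff_classInner_self isCharacter_ch7]
  obtain ⟨a, ha⟩ := Core.classInner_isNat isCharacter_ch7 isCharacter_ch7
  obtain ⟨b, hb⟩ := Core.classInner_isNat isCharacter_ch7 isCharacter_ch21
  obtain ⟨c, hc⟩ := Core.classInner_isNat isCharacter_ch21 isCharacter_ch7
  have hd := Core.classInner_irr_self isIrr_ch21
  have ha0 : a ≠ 0 := by
    rintro rfl
    rw [Nat.cast_zero] at ha
    have := congrFun (Core.classInner_self_eq_zero ha) 1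
    rw [ch7_one] at this
    norm_num at this
  have hsum : ch28 = ch7 + ch21 := by
    funext g
    simp [ch21]
  have h1 := classInner_ch28
  rw [hsum, Core.classInner_add_left, Core.classInner_add_right, Core.classInner_add_right, ha, hb, hc, hd] at h1
  have h2 : (a + b) + (c + 1) = 2 := by exact_mod_cast h1
  rw [ha]
  have : a = 1 := by omega
  rw [this, Nat.cast_one]

theorem seven_mem : 7 ∈ charDegrees S := mem_cd isIrr_ch7 (by rw [ch7_one]; norm_num)

theorem twentyone_mem : 21 ∈ charDegrees S := mem_cd isIrr_ch21 (by rw [ch21, ch7_one, ch28_one]; norm_num)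

/-- **`Sp₆(2)`** -/
theorem eight_sp62 {F : Type u} [Field F] [Fintype F] (hF : Fintype.card F = 2) : Eight (PSp 3 F) := by
  have hsim : IsSimpleGroup (PSp 3 F) := Cfsg.Agent.S0270.result 3 (by norm_num) (by norm_num)
  have := finite_psp' F 3
  have hq : Nat.card F = 2 := by rw [Nat.card_eq_fintype_card, hF]
  obtain ⟨e⟩ := StandardComponent.SpTwoAut.exists_equiv hF
  have hcd := charDegrees_congr e
  have h7 : 7 ∈ charDegrees (PSp 3 F) := by rw [hcd]; exact seven_mem
  have h21 : 21 ∈ charDegrees (PSp 3 F) := by rw [hcd]; exact twentyone_mem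
  obtain ⟨f, g, hf, hg, -, -, -, hf', hg'⟩ := exists_fg F (m := 3) (by norm_num)
  rw [hq] at hf' hg'
  norm_num at hf' hg'
  have hf35 : f = 35 := by omega
  have hg27 : g = 27 := by omega
  subst hf35 hg27
  have h405 : 405 ∈ charDegrees (PSp 3 F) := by
    have h1 := dg_mem F (m := 3) (k := 3) (by norm_num) le_rfl (fun _ => le_rfl) (fun _ => le_rfl) (fun _ => by norm_num)
    have h2 := dg_sp F (m := 3) (k := 3) le_rfl (by norm_num)
    rw [hq, Finset.prod_range_succ, Finset.prod_range_succ, Finset.prod_range_one] at h2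
    norm_num at h2
    have h3 : dg (CForm.spF F 3) 3 = 405 := by omega
    rwa [h3] at h1
  have h512 : 512 ∈ charDegrees (PSp 3 F) := by
    have h1 := st_mem F (m := 3) (by norm_num)
    rw [hq] at h1
    norm_num at h1
    exact h1
  obtain ⟨x, hx, hx1, hx2⟩ := exists_between (Small.of_mem h7 (by norm_num)) (X := 35) (by norm_num) h405 (by norm_num)
  refine eight_of_finset {1, 7, 21, 27, 35, x, 405, 512} ?_ ?_
  · rw [Finset.card_insert_of_notMem, Finset.card_insert_of_notMem, Finset.card_insert_of_notMem,
      Finset.card_insert_of_notMem, Finset.card_insert_of_notMem, Finset.card_insert_of_notMem,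
      Finset.card_insert_of_notMem, Finset.card_singleton]
    all_goals
      simp only [Finset.mem_insert, Finset.mem_singleton]
      omega
  · intro d hd
    simp only [Finset.mem_insert, Finset.mem_singleton] at hd
    rcases hd with rfl | rfl | rfl | rfl | rfl | rfl | rfl | rfl
    · exact one_mem
    · exact h7
    · exact h21
    · exact hg
    · exact hf
    · exact hx
    · exact h405
    · exact h512

end Cfsg.Agent.H688.Eight
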